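/-
Transfer into `M / H` for a subgroup `H` of prime index normalised by a maximal subgroup `M`.
-/
import Mathlib

set_option autoImplicit false

namespace Cfsg.Agent.Lib.MaxTransfer

open Subgroup

variable {G : Type*} [Group G] [Finite G]

/-- If all the nontrivial double coset contributions die, the transfer is the map itself. -/
theorem transfer_eq_self {A : Type*} [CommGroup A] {M : Subgroup G} (φ : ↥M →* A) (m : ↥M)
    (h : ∀ g : G, g ∉ M → ∀ (n : ℕ) (hn : g⁻¹ * (m : G) ^ n * g ∈ M), φ ⟨_, hn⟩ = 1) :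
    MonoidHom.transfer φ (m : G) = φ m := by
  classical
  haveI : Fintype (G ⧸ M) := Fintype.ofFinite _
  rw [MonoidHom.transfer_eq_prod_quotient_orbitRel_zpowers_quot]
  set q₀ : Quotient (MulAction.orbitRel (zpowers (m : G)) (G ⧸ M)) := Quotient.mk'' ((1 : G) : G ⧸ M)
  have hfix : ∀ z : zpowers (m : G), z • (((1 : G) : G ⧸ M)) = ((1 : G) : G ⧸ M) := by
    intro z
    have hz : (z : G) ∈ M := zpowers_le.2 m.2 z.2
    show ((z : G) • ((1 : G) : G ⧸ M)) = _
    rw [MulAction.Quotient.smul_coe, QuotientGroup.eq, smul_eq_mul, mul_one, mul_one]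
    exact inv_mem hz
  have hout : q₀.out = ((1 : G) : G ⧸ M) := by
    obtain ⟨z, hz⟩ := MulAction.orbitRel_apply.1 (Quotient.mk_out (s := MulAction.orbitRel (zpowers (m : G)) (G ⧸ M)) ((1 : G) : G ⧸ M))
    exact hz.symm.trans (hfix z)
  rw [Fintype.prod_eq_single q₀]
  · have hy : q₀.out.out ∈ M := by
      rw [← inv_mem_iff]
      have h1 : ((q₀.out.out : G) : G ⧸ M) = ((1 : G) : G ⧸ M) := by rw [QuotientGroup.out_eq', hout]
      simpa using QuotientGroup.eq.1 h1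
    have hper : Function.minimalPeriod (fun b : G ⧸ M => (m : G) • b) q₀.out = 1 := by
      rw [Function.minimalPeriod_eq_one_iff_isFixedPt, hout]
      exact hfix ⟨_, mem_zpowers (m : G)⟩
    calc _ = φ ((⟨_, hy⟩ : ↥M)⁻¹ * m * ⟨_, hy⟩) := congrArg φ (Subtype.ext (by simp [hper]))
      _ = φ m := by rw [map_mul, map_mul, map_inv, mul_comm (φ ⟨_, hy⟩)⁻¹, inv_mul_cancel_right]
  · intro q hq
    refine h _ (fun hmem => hq ?_) _ _
    have h1 : q.out = ((1 : G) : G ⧸ M) := by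
      rw [← QuotientGroup.out_eq' q.out, QuotientGroup.eq]
      simpa using inv_mem hmem
    calc q = Quotient.mk'' q.out := (Quotient.out_eq' q).symm
      _ = q₀ := by rw [h1]

/-- The transfer gives a normal subgroup meeting `M` exactly in `H`. -/
theorem exists_normal_inf_eq {H M : Subgroup G} (hHM : H ≤ M) (hn : (H.subgroupOf M).Normal)
    (hp : (H.relIndex M).Prime) {S : Set G}
    (hS : ∀ s ∈ S, ∃ (m : ↥M) (g : G), s = g * (m : G) * g⁻¹ ∧ (m : G) ∈ H)
    (hc : ∀ g : G, g ∉ M → ∀ y : G, y ∈ M → g⁻¹ * y * g ∈ M → g⁻¹ * y * g ∈ H) :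
    ∃ K : Subgroup G, K.Normal ∧ S ⊆ K ∧ K ⊓ M = H := by
  haveI := hn
  haveI : Fact (H.relIndex M).Prime := ⟨hp⟩
  haveI : IsCyclic (↥M ⧸ H.subgroupOf M) := isCyclic_of_prime_card (p := H.relIndex M) rfl
  letI : CommGroup (↥M ⧸ H.subgroupOf M) := IsCyclic.commGroup
  set φ := QuotientGroup.mk' (H.subgroupOf M)
  have hev : ∀ m : ↥M, MonoidHom.transfer φ (m : G) = φ m := fun m =>
    transfer_eq_self φ m fun g hg n hn' => (QuotientGroup.eq_one_iff _).2
      (mem_subgroupOf.2 (hc g hg _ (pow_mem m.2 n) hn'))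
  refine ⟨(MonoidHom.transfer φ).ker, inferInstance, fun s hs => ?_, le_antisymm ?_ ?_⟩
  · obtain ⟨m, g, rfl, hm⟩ := hS s hs
    show MonoidHom.transfer φ (g * (m : G) * g⁻¹) = 1
    have h1 : φ m = 1 := (QuotientGroup.eq_one_iff m).2 (mem_subgroupOf.2 hm)
    rw [map_mul, map_mul, hev m, h1, mul_one,
      ← map_mul, mul_inv_cancel, map_one]
  · rintro x ⟨hxK, hxM⟩
    have h1 : φ ⟨x, hxM⟩ = 1 := (hev ⟨x, hxM⟩).symm.trans hxK
    exact (QuotientGroup.eq_one_iff (N := H.subgroupOf M) (⟨x, hxM⟩ : ↥M)).1 h1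
  · exact fun x hx => ⟨(hev ⟨x, hHM hx⟩).trans
      ((QuotientGroup.eq_one_iff (⟨x, hHM hx⟩ : ↥M)).2 (mem_subgroupOf.2 hx)), hHM hx⟩

end Cfsg.Agent.Lib.MaxTransfer
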